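import Groth.Agent.Lift.K695.GrFlat
import Groth.Agent.CurvesC.KerSec

/-!
# The kernel of a semismall extension on a flat scheme

`X` flat over `A`, `I` a maximal ideal, `K` a finitely generated ideal with `I K = 0`: the ideal module
`K O_X` is a finite direct sum of copies of `O_X / I O_X`.
-/

set_option autoImplicit false
universe u

open CategoryTheory CategoryTheory.Limits AlgebraicGeometry TopologicalSpace Opposite

namespace K569.DefT.KerIso

open Groth.Agent.Sga2.LefThick Groth.Agent.FormalB Groth.Agent.FormalB.ModPowAff Groth.Agent.Pic13.H126.ThickH1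
  Groth.Agent.CohqA.IdealMod K695.GrAlg K695.GrFlat

attribute [local instance] Abelian.hasFiniteBiproducts

variable {A : Type u} [CommRing A] {X : Scheme.{u}} [X.Over (Spec (CommRingCat.of A))]

variable (I K : Ideal A) (hIK : I * K = ⊥) (J 𝒦 : X.IdealSheafData)
    (hJ : ∀ U : X.affineOpens, J.ideal U = I.map (toΓ A X U.1))
    (hK : ∀ U : X.affineOpens, 𝒦.ideal U = K.map (toΓ A X U.1))

include hJ hK hIK

/-- Multiplication by `a ∈ K` as a map `O_X/J ⟶ 𝒦`. -/
theorem exists_mulMap (a : A) (ha : a ∈ K) :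
    ∃ ψ : ClSub.quotMod J ⟶ ClSub.idealMod 𝒦, ClSub.toSubscheme J ≫ ψ ≫ ClSub.idealModι 𝒦 =
      Formal.smulMod A _ a := by
  have : Epi (C := X.Modules) (ClSub.toSubscheme J) := epi_toSubscheme J
  have h1 : kernel.ι (C := X.Modules) (ClSub.toSubscheme J) ≫ Formal.smulMod A _ a = 0 := by
    refine hom_ext_affine fun U s => ?_
    have key : ∀ t : Γ(X, U.1), t ∈ J.ideal U → toΓ A X U.1 a * t = 0 := by
      intro t ht
      rw [hJ] at ht
      have h2 := Ideal.mul_mem_mul (Ideal.mem_map_of_mem (toΓ A X U.1) ha) ht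
      rw [← Ideal.map_mul, mul_comm K I, hIK, Ideal.map_bot] at h2
      exact h2
    exact key _ ((exists_idealModι_app_iff J U _).1 ⟨s, rfl⟩)
  let χ : ClSub.quotMod J ⟶ Coh.structureModule X :=
    Abelian.epiDesc (ClSub.toSubscheme J) _ h1
  have hχ : ClSub.toSubscheme J ≫ χ = Formal.smulMod A _ a :=
    Abelian.comp_epiDesc _ _ _
  have h2 : χ ≫ ClSub.toSubscheme 𝒦 = 0 := by
    rw [← cancel_epi (ClSub.toSubscheme J), comp_zero, reassoc_of% hχ]
    refine hom_ext_affine fun U s => ?_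
    have key : ∀ t : Γ(X, U.1), toΓ A X U.1 a * t ∈ 𝒦.ideal U := by
      intro t
      rw [hK]
      exact Ideal.mul_mem_right _ _ (Ideal.mem_map_of_mem _ ha)
    exact (toSubscheme_app_eq_zero_iff _ U _).2 (key _)
  exact ⟨kernel.lift _ χ h2, (congrArg (ClSub.toSubscheme J ≫ ·) (kernel.lift_ι _ _ _)).trans hχ⟩

/-- **The kernel ideal of a semismall extension on a flat scheme.** -/
theorem exists_iso [I.IsMaximal] [Flat (X ↘ Spec (CommRingCat.of A))] (hKf : K.FG) :
    ∃ r : ℕ, Nonempty ((⨁ fun _ : Fin r => ClSub.quotMod J) ≅ ClSub.idealMod 𝒦) := by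
  obtain ⟨r, x, hx⟩ := exists_isGrBasis I K hKf
  choose ψ hψ using fun j => exists_mulMap I K hIK J 𝒦 hJ hK (x j) (hx.mem j)
  let Q : Fin r → X.Modules := fun _ => ClSub.quotMod J
  let Ψ : (⨁ Q) ⟶ ClSub.idealMod 𝒦 := biproduct.desc ψ
  -- the map on sections
  have hsec : ∀ (U : X.affineOpens) (b : Fin r → Γ(X, U.1)),
      (ClSub.idealModι 𝒦).app U.1
        (Ψ.app U.1 (∑ j, (biproduct.ι Q j).app U.1 ((ClSub.toSubscheme J).app U.1 (b j)))) =
        (show Γ(Coh.structureModule X, U.1) from (∑ j, b j * toΓ A X U.1 (x j) : Γ(X, U.1))) := by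
    intro U b
    rw [map_sum, map_sum]
    refine Finset.sum_congr rfl fun j _ => ?_
    have h1 : biproduct.ι Q j ≫ Ψ = ψ j := biproduct.ι_desc _ _
    have h2 : Ψ.app U.1 ((biproduct.ι Q j).app U.1 ((ClSub.toSubscheme J).app U.1 (b j))) =
        (ψ j).app U.1 ((ClSub.toSubscheme J).app U.1 (b j)) := congr(($h1).app U.1 _)
    have h3 : (ClSub.idealModι 𝒦).app U.1
        ((ψ j).app U.1 ((ClSub.toSubscheme J).app U.1 (b j))) =
        (show Γ(Coh.structureModule X, U.1) from (toΓ A X U.1 (x j) * b j : Γ(X, U.1))) :=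
      congr(($(hψ j)).app U.1 (b j))
    rw [h2, h3]
    exact mul_comm (toΓ A X U.1 (x j)) (b j : Γ(X, U.1))
  have : IsIso Ψ := by
    refine isIso_of_affine Ψ fun U => ?_
    constructor
    · rw [injective_iff_map_eq_zero]
      intro z hz
      choose b hb using fun j => toSubscheme_app_surjective J U ((biproduct.π Q j).app U.1 z)
      have hz' : z = ∑ j, (biproduct.ι Q j).app U.1 ((ClSub.toSubscheme J).app U.1 (b j)) := by
        have h1 : ∀ w : Γ(⨁ Q, U.1), (∑ j, biproduct.π Q j ≫ biproduct.ι Q j).app U.1 w =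
            ∑ j, (biproduct.ι Q j).app U.1 ((biproduct.π Q j).app U.1 w) := by
          intro w
          exact map_sum (evAt U.1 w) _ _
        rw [biproduct.total] at h1
        rw [Finset.sum_congr rfl fun j _ => congrArg _ (hb j)]
        exact h1 z
      rw [hz'] at hz ⊢
      have h2 := hsec U b
      rw [hz, map_zero] at h2
      have h3 : (∑ j, (show Γ(X, U.1) from b j) * toΓ A X U.1 (x j) : Γ(X, U.1)) ∈ (I * K).map (toΓ A X U.1) := by
        rw [hIK, Ideal.map_bot]
        exact h2.symm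
      refine Finset.sum_eq_zero fun j _ => ?_
      have h4 := hx.indep_ringHom (toΓ A X U.1) (flat_toΓ U) b h3 j
      rw [(toSubscheme_app_eq_zero_iff J U (b j)).2 (by rw [hJ]; exact h4), map_zero]
    · intro y
      have h1 := (exists_idealModι_app_iff 𝒦 U ((ClSub.idealModι 𝒦).app U.1 y)).1 ⟨y, rfl⟩
      rw [hK] at h1
      obtain ⟨b, hb⟩ := hx.span_ringHom (toΓ A X U.1) _ h1
      refine ⟨∑ j, (biproduct.ι Q j).app U.1 ((ClSub.toSubscheme J).app U.1 (b j)), ?_⟩
      apply Groth.Agent.CurvesC.KerSec.idealModι_app_injective 𝒦 U.1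
      rw [hsec U b]
      rw [hIK, Ideal.map_bot] at hb
      exact (sub_eq_zero.1 hb).symm
  exact ⟨r, ⟨asIso Ψ⟩⟩

end K569.DefT.KerIso
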