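import Groth.Agent.DefT.K569.LFExt
import Groth.Agent.DefT.K569.KerIso
import Groth.Agent.Dcoh.ClosedProj
import Groth.Agent.Lift.K695.DeformFin
import Groth.Agent.Lift.K695.ClFib
import Groth.Prelude.Def_ArtFun4

/-!
# Lifting finite locally free modules along a semismall extension

`T` flat over `A`, `K` an ideal of `A` with `m K = 0`, `P = V(K O_T)`, `Z = V(m O_T)`, `F` finite locally free on
`P` with restriction `F₀` to `Z`.

* `ext_vanish`: `H^n(Z, Hom(F₀, F₀)) = 0` implies `Ext^n_P(F, K O_T ⊗ F) = 0`.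
-/

set_option autoImplicit false
universe u

open CategoryTheory CategoryTheory.Limits AlgebraicGeometry TopologicalSpace Opposite

namespace K569.DefT.VBLift

open Groth.Agent Groth.Agent.FormalB.ModPowAff K695.SqZero

attribute [local instance] Abelian.hasFiniteBiproducts

section Gen

variable {C : Type*} [Category C] [Abelian C] [HasExt.{u} C]

theorem subsingleton_ext_biproduct (E : C) {r : ℕ} (M : Fin r → C) (n : ℕ)
    (h : ∀ j, Subsingleton (Abelian.Ext.{u} E (M j) n)) : Subsingleton (Abelian.Ext.{u} E (⨁ M) n) := by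
  refine subsingleton_of_forall_eq 0 fun x => ?_
  have h1 : x = x.comp (Abelian.Ext.mk₀ (∑ j, biproduct.π M j ≫ biproduct.ι M j)) (add_zero n) := by
    rw [biproduct.total]
    simp
  rw [h1, Abelian.Ext.mk₀_sum, Abelian.Ext.comp_sum]
  refine Finset.sum_eq_zero fun j _ => ?_
  rw [← Abelian.Ext.mk₀_comp_mk₀, ← Abelian.Ext.comp_assoc_of_second_deg_zero]
  rw [Subsingleton.elim (x.comp (Abelian.Ext.mk₀ (biproduct.π M j)) (add_zero n)) 0]
  simp

end Gen

variable {X Z : Scheme.{u}}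

/-- `Hom(F, -)` depends on `F` only up to isomorphism. -/
noncomputable def sheafHomCongr {F F' : X.Modules} (e : F ≅ F') [DCoh.HasSheafHom F] [DCoh.HasSheafHom F'] :
    DCoh.sheafHom F ≅ DCoh.sheafHom F' :=
  (DCoh.sheafHomAdj F).rightAdjointUniq
    ((DCoh.sheafHomAdj F').ofNatIsoLeft ((DCoh.tensorBi (X := X)).mapIso e).symm)

theorem subsingleton_HH_sheafHom_of_iso {F F' : X.Modules} (e : F ≅ F') [DCoh.HasSheafHom F]
    [DCoh.HasSheafHom F'] (n : ℕ) (h : Subsingleton (Coh.HH X ((DCoh.sheafHom F).obj F) n)) :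
    Subsingleton (Coh.HH X ((DCoh.sheafHom F').obj F') n) :=
  Groth.Agent.CohqA.DirectSum.subsingleton_of_iso
    ((sheafHomCongr e).app F ≪≫ (DCoh.sheafHom F').mapIso e) n h

/-- `i_* O ⊗ E = i_* i^* E` for a closed immersion. -/
theorem nonempty_pushO_tensor (i : Z ⟶ X) [IsClosedImmersion i] (E : X.Modules) :
    Nonempty (CohB1.tensorMod ((Scheme.Modules.pushforward i).obj (Coh.structureModule Z)) E ≅
      (Scheme.Modules.pushforward i).obj ((Scheme.Modules.pullback i).obj E)) := by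
  have h := Groth.Agent.Dcoh.ClosedProj.isIso_proj i (Coh.structureModule Z) E
  exact ⟨(@asIso X.Modules _ _ _ (Groth.Agent.Dcoh.ClosedProj.proj i (Coh.structureModule Z) E) h) ≪≫
    (Scheme.Modules.pushforward i).mapIso (Ega2.Tens.lunit _)⟩

variable {A : Type u} [CommRing A] {T : Scheme.{u}} [T.Over (Spec (CommRingCat.of A))]

/-- The kernel ideal, as a module on the closed subscheme it defines, is a finite sum of copies of `i₁_* O_Z`. -/
theorem exists_pb_iso (I K : Ideal A) [I.IsMaximal] (hIK : I * K = ⊥) (hKf : K.FG)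
    [Flat (T ↘ Spec (CommRingCat.of A))] (𝒦 : T.IdealSheafData)
    (hK : ∀ U : T.affineOpens, 𝒦.ideal U = K.map (toΓ A T U.1))
    (i : Z ⟶ T) [IsClosedImmersion i] (hi : ∀ U : T.affineOpens, i.ker.ideal U = I.map (toΓ A T U.1))
    (i₁ : Z ⟶ 𝒦.subscheme) (hi₁ : i₁ ≫ 𝒦.subschemeι = i) :
    ∃ r : ℕ, Nonempty ((pb 𝒦).obj (ClSub.idealMod 𝒦) ≅
      ⨁ fun _ : Fin r => (Scheme.Modules.pushforward i₁).obj (Coh.structureModule Z)) := by
  obtain ⟨r, ⟨e⟩⟩ := K569.DefT.KerIso.exists_iso I K hIK i.ker 𝒦 hi hK hKf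
  obtain ⟨q⟩ := K695.GrFlat.nonempty_quotMod_iso i
  have : PreservesBiproductsOfShape (Fin r) (pb 𝒦) := by
    have : (pb 𝒦).IsLeftAdjoint := (Scheme.Modules.pullbackPushforwardAdjunction 𝒦.subschemeι).isLeftAdjoint
    exact preservesBiproductsOfShape_of_preservesCoproductsOfShape _
  let c := Groth.Agent.FormalA.ExProj.counitIso 𝒦.subschemeι
  let q' : ClSub.quotMod i.ker ≅ (ps 𝒦).obj ((Scheme.Modules.pushforward i₁).obj (Coh.structureModule Z)) :=
    q ≪≫ (Scheme.Modules.pushforwardCongr hi₁).symm.app _ ≪≫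
      (Scheme.Modules.pushforwardComp i₁ 𝒦.subschemeι).symm.app _
  refine ⟨r, ⟨(pb 𝒦).mapIso e.symm ≪≫ (pb 𝒦).mapBiproduct _ ≪≫
    biproduct.mapIso fun _ => (pb 𝒦).mapIso q' ≪≫ c.app _⟩⟩

/-- `i₁_* O ⊗ F`-form. -/
theorem exists_pb_tensor_iso (I K : Ideal A) [I.IsMaximal] (hIK : I * K = ⊥) (hKf : K.FG)
    [Flat (T ↘ Spec (CommRingCat.of A))] (𝒦 : T.IdealSheafData)
    (hK : ∀ U : T.affineOpens, 𝒦.ideal U = K.map (toΓ A T U.1))
    (i : Z ⟶ T) [IsClosedImmersion i] (hi : ∀ U : T.affineOpens, i.ker.ideal U = I.map (toΓ A T U.1))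
    (i₁ : Z ⟶ 𝒦.subscheme) [IsClosedImmersion i₁] (hi₁ : i₁ ≫ 𝒦.subschemeι = i) (F : 𝒦.subscheme.Modules) :
    ∃ r : ℕ, Nonempty (CohB1.tensorMod ((pb 𝒦).obj (ClSub.idealMod 𝒦)) F ≅
      ⨁ fun _ : Fin r => (Scheme.Modules.pushforward i₁).obj ((Scheme.Modules.pullback i₁).obj F)) := by
  obtain ⟨r, ⟨e⟩⟩ := exists_pb_iso I K hIK hKf 𝒦 hK i hi i₁ hi₁
  obtain ⟨q⟩ := nonempty_pushO_tensor i₁ F
  let Φ : 𝒦.subscheme.Modules ⥤ 𝒦.subscheme.Modules := (DCoh.tensorBi (X := 𝒦.subscheme)).obj F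
  have : PreservesBiproductsOfShape (Fin r) Φ := by
    have hsh : DCoh.HasSheafHom F := Groth.Agent.Sga2.PnHomAdj.hasSheafHom F
    have := (DCoh.sheafHomAdj F).leftAdjoint_preservesColimits.{0, 0}
    exact preservesBiproductsOfShape_of_preservesCoproductsOfShape _
  exact ⟨r, ⟨Ega2.Tens.swap _ _ ≪≫ Φ.mapIso e ≪≫ Φ.mapBiproduct _ ≪≫
    biproduct.mapIso fun _ => Ega2.Tens.swap _ _ ≪≫ q⟩⟩

/-- **Vanishing of the Ext group which contains the obstructions / differences.** -/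
theorem ext_vanish (k : Type u) [Field k] [Algebra k A] (I K : Ideal A) [I.IsMaximal] (hIK : I * K = ⊥) (hKf : K.FG)
    [Flat (T ↘ Spec (CommRingCat.of A))] (𝒦 : T.IdealSheafData)
    (hK : ∀ U : T.affineOpens, 𝒦.ideal U = K.map (toΓ A T U.1))
    (i : Z ⟶ T) [IsClosedImmersion i] (hi : ∀ U : T.affineOpens, i.ker.ideal U = I.map (toΓ A T U.1))
    (i₁ : Z ⟶ 𝒦.subscheme) (hi₁ : i₁ ≫ 𝒦.subschemeι = i) [HasExt.{u} 𝒦.subscheme.Modules]
    (F : 𝒦.subscheme.Modules) (hF : FlatMod.IsFinLocFree F) (F' : 𝒦.subscheme.Modules) (F₀ : Z.Modules)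
    [DCoh.HasSheafHom F₀]
    (e : (Scheme.Modules.pullback i₁).obj F ≅ F₀) (e' : (Scheme.Modules.pullback i₁).obj F' ≅ F₀) (n : ℕ)
    (h : Subsingleton (Coh.HH Z ((DCoh.sheafHom F₀).obj F₀) n)) :
    Subsingleton (Abelian.Ext.{u} F (CohB1.tensorMod ((pb 𝒦).obj (ClSub.idealMod 𝒦)) F') n) := by
  have hci : IsClosedImmersion i₁ := by
    have : IsClosedImmersion (i₁ ≫ 𝒦.subschemeι) := by rw [hi₁]; infer_instance
    exact IsClosedImmersion.of_comp i₁ 𝒦.subschemeι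
  obtain ⟨r, ⟨q⟩⟩ := exists_pb_tensor_iso I K hIK hKf 𝒦 hK i hi i₁ hi₁ F'
  refine K695.ExtSplit.subsingleton_ext_of_iso_right q.symm n ?_
  refine subsingleton_ext_biproduct _ _ _ fun _ => ?_
  have hsh : DCoh.HasSheafHom ((Scheme.Modules.pullback i₁).obj F) := Groth.Agent.Sga2.PnHomAdj.hasSheafHom _
  let _ : 𝒦.subscheme.Over (Spec (CommRingCat.of k)) :=
    ⟨𝒦.subschemeι ≫ (T ↘ Spec (CommRingCat.of A)) ≫ Spec.map (CommRingCat.ofHom (algebraMap k A))⟩
  refine K569.DefT.LFExt.subsingleton_ext i₁ k hF _ n ?_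
  refine Groth.Agent.CohqA.DirectSum.subsingleton_of_iso
    ((sheafHomCongr e.symm).app F₀ ≪≫ (DCoh.sheafHom _).mapIso e'.symm) n h

end K569.DefT.VBLift
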