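import Groth.Agent.DefT.K569.VBMain
import Groth.Agent.PerfC.PullRestrict

/-!
# Existence and uniqueness of lifts of finite locally free modules along a semismall extension
-/

set_option autoImplicit false
universe u

open CategoryTheory CategoryTheory.Limits AlgebraicGeometry TopologicalSpace Opposite

namespace K569.DefT.VBThm

open Groth.Agent Groth.Agent.FormalB.ModPowAff K695.SqZero ArtFun ArtFun.Art K569.DefT.VBMain

theorem hasExt (X : Scheme.{u}) : HasExt.{u} X.Modules :=
  have := K695.KillCat.enoughInjectives X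
  hasExt_of_enoughInjectives.{u} X.Modules

variable {k : Type u} [Field k] {X₀ : Scheme.{u}} {x : X₀ ⟶ Spec (CommRingCat.of k)} {C' C : ArtFun.Art k k}
  (p : C' ⟶ C) (hp : IsSemismallExt p) (X' : DefSch X₀ x C')

include hp

/-- Vanishing of the relevant Ext group. -/
theorem ext_vanish' {𝒦 : X'.total.IdealSheafData} (h𝒦 : 𝒦 = (pullback.fst X'.f (specMap p)).ker)
    (i₁ : X₀ ⟶ 𝒦.subscheme) (hi₁ : i₁ ≫ 𝒦.subschemeι = X'.i) [HasExt.{u} 𝒦.subscheme.Modules]
    (F : 𝒦.subscheme.Modules) (hF : FlatMod.IsFinLocFree F) (F' : 𝒦.subscheme.Modules) (F₀ : X₀.Modules)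
    [DCoh.HasSheafHom F₀]
    (e : (Scheme.Modules.pullback i₁).obj F ≅ F₀) (e' : (Scheme.Modules.pullback i₁).obj F' ≅ F₀) (n : ℕ)
    (h : Subsingleton (Coh.HH X₀ ((DCoh.sheafHom F₀).obj F₀) n)) :
    Subsingleton (Abelian.Ext.{u} F (CohB1.tensorMod ((pb 𝒦).obj (ClSub.idealMod 𝒦)) F') n) := by
  subst h𝒦
  exact K569.DefT.VBLift.ext_vanish k (IsLocalRing.maximalIdeal C') (RingHom.ker p.toAlgHom.toRingHom)
    (hIK p hp) (IsNoetherian.noetherian _) _ (ideal_K p hp X') X'.i (ideal_I X') i₁ hi₁ F hF F' F₀ e e' n h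

theorem exists_lift (F : (X'.baseChange p).total.Modules) (hF : FlatMod.IsFinLocFree F)
    [DCoh.HasSheafHom ((Scheme.Modules.pullback (X'.baseChange p).i).obj F)]
    (h2 : Subsingleton (Coh.HH X₀ ((DCoh.sheafHom ((Scheme.Modules.pullback (X'.baseChange p).i).obj F)).obj
        ((Scheme.Modules.pullback (X'.baseChange p).i).obj F)) 2)) :
    ∃ F' : X'.total.Modules, FlatMod.IsFinLocFree F' ∧
      Nonempty ((Scheme.Modules.pullback (pullback.fst X'.f (ArtFun.Art.specMap p))).obj F' ≅ F) := by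
  obtain ⟨e, he⟩ := exists_iso_sub p hp X'
  have hE := hasExt (pullback.fst X'.f (specMap p)).ker.subscheme
  let E₀ := (Scheme.Modules.pullback e.inv).obj F
  have hE₀ : FlatMod.IsFinLocFree E₀ := PerfC.PullRestrict.isFinLocFree_pullback e.inv hF
  have hi₁ : ((X'.baseChange p).i ≫ e.hom) ≫ (pullback.fst X'.f (specMap p)).ker.subschemeι = X'.i := by
    rw [Category.assoc, he]
    exact DefSch.baseChange_i_fst X' p
  let q : (Scheme.Modules.pullback ((X'.baseChange p).i ≫ e.hom)).obj E₀ ≅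
      (Scheme.Modules.pullback (X'.baseChange p).i).obj F :=
    (Scheme.Modules.pullbackComp ((X'.baseChange p).i ≫ e.hom) e.inv).app F ≪≫
      (Scheme.Modules.pullbackCongr (by rw [Category.assoc, e.hom_inv_id, Category.comp_id])).app F
  obtain ⟨F', hF', ⟨w⟩⟩ := K695.DeformFin.exists_deformation (sq_eq_bot p hp X') hE₀
    (ext_vanish' p hp X' rfl _ hi₁ E₀ hE₀ E₀ _ q q 2 h2)
  refine ⟨F', hF', ⟨(Scheme.Modules.pullbackCongr he).symm.app F' ≪≫
    (Scheme.Modules.pullbackComp e.hom _).symm.app F' ≪≫ (Scheme.Modules.pullback e.hom).mapIso w ≪≫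
    (Scheme.Modules.pullbackComp e.hom e.inv).app F ≪≫
    (Scheme.Modules.pullbackCongr e.hom_inv_id).app F ≪≫ (Scheme.Modules.pullbackId _).app F⟩⟩

theorem nonempty_iso (F : (X'.baseChange p).total.Modules)
    [DCoh.HasSheafHom ((Scheme.Modules.pullback (X'.baseChange p).i).obj F)]
    (h1 : Subsingleton (Coh.HH X₀ ((DCoh.sheafHom ((Scheme.Modules.pullback (X'.baseChange p).i).obj F)).obj
        ((Scheme.Modules.pullback (X'.baseChange p).i).obj F)) 1))
    (F' F'' : X'.total.Modules) (hF' : FlatMod.IsFinLocFree F') (hF'' : FlatMod.IsFinLocFree F'')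
    (e' : Nonempty ((Scheme.Modules.pullback (pullback.fst X'.f (ArtFun.Art.specMap p))).obj F' ≅ F))
    (e'' : Nonempty ((Scheme.Modules.pullback (pullback.fst X'.f (ArtFun.Art.specMap p))).obj F'' ≅ F)) :
    Nonempty (F' ≅ F'') := by
  obtain ⟨e, he⟩ := exists_iso_sub p hp X'
  obtain ⟨e'⟩ := e'
  obtain ⟨e''⟩ := e''
  have hE := hasExt (pullback.fst X'.f (specMap p)).ker.subscheme
  have hi₁ : ((X'.baseChange p).i ≫ e.hom) ≫ (pullback.fst X'.f (specMap p)).ker.subschemeι = X'.i := by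
    rw [Category.assoc, he]
    exact DefSch.baseChange_i_fst X' p
  have he' : e.inv ≫ pullback.fst X'.f (specMap p) = (pullback.fst X'.f (specMap p)).ker.subschemeι := by
    rw [Iso.inv_comp_eq, he]
  -- restriction to the closed subscheme
  let r : ∀ G : X'.total.Modules, ((Scheme.Modules.pullback (pullback.fst X'.f (ArtFun.Art.specMap p))).obj G ≅ F) →
      ((pb (pullback.fst X'.f (specMap p)).ker).obj G ≅ (Scheme.Modules.pullback e.inv).obj F) := fun G w =>
    (Scheme.Modules.pullbackCongr he').symm.app G ≪≫ (Scheme.Modules.pullbackComp e.inv _).symm.app G ≪≫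
      (Scheme.Modules.pullback e.inv).mapIso w
  let q : (Scheme.Modules.pullback ((X'.baseChange p).i ≫ e.hom)).obj ((Scheme.Modules.pullback e.inv).obj F) ≅
      (Scheme.Modules.pullback (X'.baseChange p).i).obj F :=
    (Scheme.Modules.pullbackComp ((X'.baseChange p).i ≫ e.hom) e.inv).app F ≪≫
      (Scheme.Modules.pullbackCongr (by rw [Category.assoc, e.hom_inv_id, Category.comp_id])).app F
  have hfl : ∀ G : X'.total.Modules, FlatMod.IsFinLocFree G →
      FlatMod.IsFinLocFree ((pb (pullback.fst X'.f (specMap p)).ker).obj G) := fun G hG =>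
    PerfC.PullRestrict.isFinLocFree_pullback _ hG
  let s : ∀ G : X'.total.Modules, ((Scheme.Modules.pullback (pullback.fst X'.f (ArtFun.Art.specMap p))).obj G ≅ F) →
      ((Scheme.Modules.pullback ((X'.baseChange p).i ≫ e.hom)).obj ((pb (pullback.fst X'.f (specMap p)).ker).obj G) ≅
        (Scheme.Modules.pullback (X'.baseChange p).i).obj F) := fun G w =>
    (Scheme.Modules.pullback ((X'.baseChange p).i ≫ e.hom)).mapIso (r G w) ≪≫ q
  obtain ⟨a, ha⟩ := K695.SqZero.exists_lift (sq_eq_bot p hp X') hF' hF''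
    (ext_vanish' p hp X' rfl _ hi₁ _ (hfl F' hF') _ _ (s F' e') (s F'' e'') 1 h1) ((r F' e').hom ≫ (r F'' e'').inv)
  obtain ⟨b, hb⟩ := K695.SqZero.exists_lift (sq_eq_bot p hp X') hF'' hF'
    (ext_vanish' p hp X' rfl _ hi₁ _ (hfl F'' hF'') _ _ (s F'' e'') (s F' e') 1 h1) ((r F'' e'').hom ≫ (r F' e').inv)
  have := K695.SqZero.isIso_of_lifts (sq_eq_bot p hp X') hF' hF'' a b
    (by rw [Functor.map_comp]; exact (congrArg₂ (· ≫ ·) ha hb).trans (by simp))
    (by rw [Functor.map_comp]; exact (congrArg₂ (· ≫ ·) hb ha).trans (by simp))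
  exact ⟨asIso a⟩

end K569.DefT.VBThm
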