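import Groth.Agent.Surf.K461.DualLF
import Groth.Agent.PerfC.LpullTens
import Groth.Agent.Sga2.PicThick
import Groth.Agent.CohqA.DirectSum

/-!
# `Ext^n_X(F, i_* G) = H^n(Z, Hom(i^* F, G))` for `F` finite locally free (vanishing form)

`X` a scheme over a field `k`, `i : Z ⟶ X` a closed immersion.
-/

set_option autoImplicit false
universe u

open CategoryTheory CategoryTheory.Limits AlgebraicGeometry TopologicalSpace Opposite

attribute [local instance] HasDerivedCategory.standard

namespace K569.DefT.LFExt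

open Groth.Agent
open scoped Groth.Agent.Dcoh.MonCat

variable {X Z : Scheme.{u}} (i : Z ⟶ X)

/-- `Hom(F, i_* G) = i_* Hom(i^* F, G)`. -/
noncomputable def homPushIso (F : X.Modules) [DCoh.HasSheafHom F]
    [DCoh.HasSheafHom ((Scheme.Modules.pullback i).obj F)] :
    Scheme.Modules.pushforward i ⋙ DCoh.sheafHom F ≅
      DCoh.sheafHom ((Scheme.Modules.pullback i).obj F) ⋙ Scheme.Modules.pushforward i :=
  letI := Groth.Agent.Dcoh.MonPull.monPull i
  let adj1 := (DCoh.sheafHomAdj F).comp (Scheme.Modules.pullbackPushforwardAdjunction i)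
  let adj2 := (Scheme.Modules.pullbackPushforwardAdjunction i).comp
    (DCoh.sheafHomAdj ((Scheme.Modules.pullback i).obj F))
  let e : (DCoh.tensorBi (X := X)).obj F ⋙ Scheme.Modules.pullback i ≅
      Scheme.Modules.pullback i ⋙ (DCoh.tensorBi (X := Z)).obj ((Scheme.Modules.pullback i).obj F) :=
    (PerfC.LpullTens.biIso (Scheme.Modules.pullback i)).app F
  adj1.rightAdjointUniq (adj2.ofNatIsoLeft e.symm)

theorem subsingleton_ext_of_sheafHom (k : Type u) [Field k] [X.Over (Spec (CommRingCat.of k))]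
    {F : X.Modules} (hF : FlatMod.IsFinLocFree F) [DCoh.HasSheafHom F] (W : X.Modules) (m : ℕ)
    [HasExt.{u} X.Modules]
    (h : Subsingleton (Coh.HH X ((DCoh.sheafHom F).obj W) m)) :
    Subsingleton (Abelian.Ext.{u} F W m) := by
  obtain ⟨e⟩ := K461.DualLF.nonempty_hom_equiv k hF W m
  have h1 : Subsingleton (CurvesC.HV X ((DCoh.sheafHom F).obj W) m) := by
    exact (CurvesC.HV.equiv k ((DCoh.sheafHom F).obj W) m).toEquiv.subsingleton
  have h2 := e.toEquiv.subsingleton
  exact (Abelian.Ext.homEquiv (C := X.Modules) (X := F) (Y := W) (n := m)).subsingleton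

theorem subsingleton_ext (k : Type u) [Field k] [X.Over (Spec (CommRingCat.of k))] [IsClosedImmersion i]
    {F : X.Modules} (hF : FlatMod.IsFinLocFree F) [DCoh.HasSheafHom ((Scheme.Modules.pullback i).obj F)]
    (G : Z.Modules) (m : ℕ) [HasExt.{u} X.Modules]
    (h : Subsingleton (Coh.HH Z ((DCoh.sheafHom ((Scheme.Modules.pullback i).obj F)).obj G) m)) :
    Subsingleton (Abelian.Ext.{u} F ((Scheme.Modules.pushforward i).obj G) m) := by
  have hsh : DCoh.HasSheafHom F := Groth.Agent.Sga2.PnHomAdj.hasSheafHom F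
  refine subsingleton_ext_of_sheafHom k hF _ m ?_
  exact Groth.Agent.CohqA.DirectSum.subsingleton_of_iso ((homPushIso i F).app G).symm m
    (Groth.Agent.Sga2.PicThick.subsingleton_HH_pushforward i _ m h)

end K569.DefT.LFExt
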