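import Groth.Agent.DefT.K569.VBLift
import Groth.Agent.AlgSp.K647.Idl

/-!
# Lifting finite locally free modules along deformations of schemes over Artinian algebras
-/

set_option autoImplicit false
universe u

open CategoryTheory CategoryTheory.Limits AlgebraicGeometry TopologicalSpace Opposite

namespace K569.DefT.VBMain

open Groth.Agent Groth.Agent.FormalB.ModPowAff K695.SqZero ArtFun ArtFun.Art

theorem ideal_ker {B C : Type u} [CommRing B] [CommRing C] (φ : B →+* C)
    [IsClosedImmersion (Spec.map (CommRingCat.ofHom φ))] {T P : Scheme.{u}}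
    [T.Over (Spec (CommRingCat.of B))] {fst : P ⟶ T} {snd : P ⟶ Spec (CommRingCat.of C)}
    (h : IsPullback fst snd (T ↘ Spec (CommRingCat.of B)) (Spec.map (CommRingCat.ofHom φ))) (U : T.affineOpens) :
    fst.ker.ideal U = (RingHom.ker φ).map (toΓ B T U.1) := by
  rw [K647.Idl.ker_of_isPullback h,
    Groth.Agent.Divis.IdealComap.ideal_comap _ (T ↘ Spec (CommRingCat.of B)) ⟨⊤, isAffineOpen_top _⟩ U
      (fun _ _ => trivial), K695.ClFib.ker_specMap_ideal, Ideal.map_map]
  rfl

variable {k : Type u} [Field k] {X₀ : Scheme.{u}} {x : X₀ ⟶ Spec (CommRingCat.of k)} {C' C : ArtFun.Art k k}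
  (p : C' ⟶ C) (hp : IsSemismallExt p) (X' : DefSch X₀ x C')

theorem ker_res (A : ArtFun.Art k k) : RingHom.ker A.res.toRingHom = IsLocalRing.maximalIdeal A := by
  have : (RingHom.ker A.res.toRingHom).IsMaximal := RingHom.ker_isMaximal_of_surjective _ A.res_surjective
  exact IsLocalRing.eq_maximalIdeal this

instance overInst : X'.total.Over (Spec (CommRingCat.of C')) := ⟨X'.f⟩

instance : Flat (X'.total ↘ Spec (CommRingCat.of C')) := X'.flat

instance isClosedImmersion_res (A : ArtFun.Art k k) : IsClosedImmersion (specRes A) :=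
  IsClosedImmersion.spec_of_surjective _ A.res_surjective

instance isClosedImmersion_i : IsClosedImmersion X'.i :=
  MorphismProperty.of_isPullback X'.isPullback.flip (isClosedImmersion_res C')

include hp

theorem isClosedImmersion_specMap : IsClosedImmersion (specMap p) :=
  IsClosedImmersion.spec_of_surjective _ hp.1

/-- `P ⟶ V(K O_T)`. -/
theorem exists_iso_sub :
    ∃ e : pullback X'.f (specMap p) ≅ (pullback.fst X'.f (specMap p)).ker.subscheme,
      e.hom ≫ (pullback.fst X'.f (specMap p)).ker.subschemeι = pullback.fst X'.f (specMap p) := by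
  have := isClosedImmersion_specMap p hp
  have h : (pullback.fst X'.f (specMap p)).ker.subschemeι.ker = (pullback.fst X'.f (specMap p)).ker :=
    Scheme.IdealSheafData.ker_subschemeι _
  let e : pullback X'.f (specMap p) ⟶ (pullback.fst X'.f (specMap p)).ker.subscheme :=
    IsClosedImmersion.lift (pullback.fst X'.f (specMap p)).ker.subschemeι (pullback.fst X'.f (specMap p)) h.le
  have he : IsIso e := IsClosedImmersion.isIso_lift _ _ h
  exact ⟨asIso e, IsClosedImmersion.lift_fac _ _ _⟩

theorem ideal_K (U : X'.total.affineOpens) :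
    (pullback.fst X'.f (specMap p)).ker.ideal U = (RingHom.ker p.toAlgHom.toRingHom).map (toΓ C' X'.total U.1) := by
  have := isClosedImmersion_specMap p hp
  exact ideal_ker p.toAlgHom.toRingHom (IsPullback.of_hasPullback X'.f (specMap p)) U

omit hp in
theorem ideal_I (U : X'.total.affineOpens) :
    X'.i.ker.ideal U = (IsLocalRing.maximalIdeal C').map (toΓ C' X'.total U.1) := by
  rw [← ker_res]
  exact ideal_ker C'.res.toRingHom X'.isPullback U

theorem hIK : IsLocalRing.maximalIdeal C' * RingHom.ker p.toAlgHom.toRingHom = ⊥ := hp.2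

theorem ker_le : RingHom.ker p.toAlgHom.toRingHom ≤ IsLocalRing.maximalIdeal C' := by
  intro a ha
  by_contra h
  have h1 : IsUnit a := by
    by_contra h2
    exact h ((IsLocalRing.mem_maximalIdeal a).2 h2)
  have h3 : IsUnit (p.toAlgHom.toRingHom a) := h1.map _
  rw [RingHom.mem_ker.1 ha] at h3
  exact not_isUnit_zero h3

theorem sq_eq_bot : (pullback.fst X'.f (specMap p)).ker ^ 2 = ⊥ := by
  ext U : 2
  rw [Scheme.IdealSheafData.ideal_pow, Pi.pow_apply, ideal_K p hp X' U, ← Ideal.map_pow]
  have h : RingHom.ker p.toAlgHom.toRingHom ^ 2 = ⊥ := by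
    rw [eq_bot_iff, ← hIK p hp, pow_two]
    exact Ideal.mul_mono_left (ker_le p hp)
  rw [h, Ideal.map_bot]
  rfl

end K569.DefT.VBMain
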